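import Groth.Agent.AlgSpLib.GorBaseChange
import Mathlib.AlgebraicGeometry.Fiber

/-!
# Fibres of morphisms out of locally Noetherian schemes are locally Noetherian
-/

set_option autoImplicit false
set_option linter.style.haveILetI false
set_option backward.isDefEq.respectTransparency.types false
universe u

open CategoryTheory CategoryTheory.Limits AlgebraicGeometry TensorProduct

namespace Groth.Agent.FBRed8

/-- Base change along an essentially finite type map of affine bases. -/
theorem isLocallyNoetherian_pullback_ess {A B : CommRingCat.{u}} (ψ : A ⟶ B) (hψ : ψ.hom.EssFiniteType)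
    {X : Scheme.{u}} [IsLocallyNoetherian X] (f : X ⟶ Spec A) :
    IsLocallyNoetherian (pullback f (Spec.map ψ)) := by
  let h := Spec.map ψ
  let 𝒰 := X.affineCover
  refine (isLocallyNoetherian_iff_openCover (Scheme.Pullback.openCoverOfLeft.{u} 𝒰 f h)).2 fun i => ?_
  show IsLocallyNoetherian (pullback (𝒰.f i ≫ f) h)
  have : IsLocallyNoetherian (𝒰.X i) := isLocallyNoetherian_of_isOpenImmersion (𝒰.f i)
  have : IsAffine (𝒰.X i) := inferInstance
  let φ : A ⟶ Γ(𝒰.X i, ⊤) := Spec.preimage ((𝒰.X i).isoSpec.inv ≫ 𝒰.f i ≫ f)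
  letI : Algebra A Γ(𝒰.X i, ⊤) := φ.hom.toAlgebra
  letI : Algebra A B := ψ.hom.toAlgebra
  haveI : Algebra.EssFiniteType A B := hψ
  have : IsNoetherianRing Γ(𝒰.X i, ⊤) := IsLocallyNoetherian.component_noetherian ⟨⊤, isAffineOpen_top _⟩
  have : IsNoetherianRing (Γ(𝒰.X i, ⊤) ⊗[A] B) :=
    Algebra.EssFiniteType.isNoetherianRing Γ(𝒰.X i, ⊤) _
  let e : pullback (𝒰.f i ≫ f) h ≅ Spec (CommRingCat.of (Γ(𝒰.X i, ⊤) ⊗[A] B)) :=
    asIso (pullback.map _ _ (Spec.map (CommRingCat.ofHom (algebraMap A Γ(𝒰.X i, ⊤))))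
      (Spec.map (CommRingCat.ofHom (algebraMap A B)))
      (𝒰.X i).isoSpec.hom (𝟙 _) (𝟙 _)
      (by
        rw [show Spec.map (CommRingCat.ofHom (algebraMap A Γ(𝒰.X i, ⊤))) = (𝒰.X i).isoSpec.inv ≫ 𝒰.f i ≫ f from
          Spec.map_preimage _, Iso.hom_inv_id_assoc, Category.comp_id])
      (by rw [Category.comp_id, Category.id_comp]; rfl)) ≪≫ pullbackSpecIso A _ B
  exact isLocallyNoetherian_of_isOpenImmersion e.hom

theorem isLocallyNoetherian_fiber {X Y : Scheme.{u}} [IsLocallyNoetherian X] (g : X ⟶ Y) (y : Y) :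
    IsLocallyNoetherian (g.fiber y) := by
  obtain ⟨V, hV, hy, -⟩ := exists_isAffineOpen_mem_and_subset (x := y) (U := ⊤) trivial
  let ψ : Γ(Y, V) ⟶ Y.residueField y := Y.presheaf.germ V y hy ≫ Y.residue y
  have h : Spec.map ψ ≫ hV.fromSpec = Y.fromSpecResidueField y := by
    rw [Spec.map_comp, Category.assoc]
    refine congrArg (Spec.map (Y.residue y) ≫ ·) ?_
    exact hV.fromSpecStalk_eq_fromSpecStalk hy
  have hψ : ψ.hom.EssFiniteType := by
    letI := (Y.presheaf.germ V y hy).hom.toAlgebra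
    haveI : Algebra.EssFiniteType Γ(Y, V) (Y.presheaf.stalk y) :=
      haveI := hV.isLocalization_stalk ⟨y, hy⟩
      Algebra.EssFiniteType.of_isLocalization _ (hV.primeIdealOf ⟨y, hy⟩).asIdeal.primeCompl
    exact RingHom.EssFiniteType.comp (show (Y.presheaf.germ V y hy).hom.EssFiniteType from this)
      (RingHom.FiniteType.essFiniteType (RingHom.FiniteType.of_surjective _ (Y.residue_surjective y)))
  haveI : IsLocallyNoetherian (pullback g hV.fromSpec) :=
    isLocallyNoetherian_of_isOpenImmersion (pullback.fst g hV.fromSpec)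
  haveI := isLocallyNoetherian_pullback_ess ψ hψ (pullback.snd g hV.fromSpec)
  let e : pullback (pullback.snd g hV.fromSpec) (Spec.map ψ) ≅ g.fiber y :=
    pullbackLeftPullbackSndIso g hV.fromSpec (Spec.map ψ) ≪≫ pullback.congrHom rfl h
  exact isLocallyNoetherian_of_isOpenImmersion e.inv

end Groth.Agent.FBRed8
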