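import Groth.Agent.FBRed8.Main
import Groth.Agent.FBaseLib.ResidueSplit

/-!
# Integral modules and field extensions
-/

set_option autoImplicit false
set_option linter.style.haveILetI false
set_option backward.isDefEq.respectTransparency.types false
universe u

open CategoryTheory CategoryTheory.Limits AlgebraicGeometry IsLocalRing Groth.Agent.AssSch12 TensorProduct

namespace Groth.Agent.FBRed8

open Groth.Agent.FBaseLib.NoEmbedded

/-- `K ⊗ L` domains for finite separable `L` leave no separable elements in `K`. -/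
theorem mem_range_of_isSeparable {k K : Type u} [Field k] [Field K] [Algebra k K]
    (h : ∀ (L : Type u) [Field L] [Algebra k L] [FiniteDimensional k L] [Algebra.IsSeparable k L], IsDomain (K ⊗[k] L))
    (c : K) (hc : IsSeparable k c) : c ∈ Set.range (algebraMap k K) := by
  let L : IntermediateField k K := IntermediateField.adjoin k {c}
  haveI : FiniteDimensional k L := IntermediateField.adjoin.finiteDimensional hc.isIntegral
  haveI : Algebra.IsSeparable k L := (IntermediateField.isSeparable_adjoin_simple_iff_isSeparable k K).2 hc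
  haveI := h L
  have hf : IsField (K ⊗[k] L) := isField_of_isIntegral_of_isField' (R := K) (S := K ⊗[k] L) (Field.toIsField K)
  let μ : K ⊗[k] L →ₐ[K] K := Algebra.TensorProduct.lift (AlgHom.id K K) L.val fun _ _ => Commute.all _ _
  have hμ : Function.Injective μ.toLinearMap := (injective_iff_map_eq_zero μ.toRingHom).2 fun a ha => by
    by_contra h0
    obtain ⟨b, hb⟩ := hf.mul_inv_cancel h0
    have h1 := congrArg μ.toRingHom hb
    rw [map_mul, ha, zero_mul, map_one] at h1
    exact zero_ne_one h1
  have h1 := LinearMap.finrank_le_finrank_of_injective hμ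
  rw [Module.finrank_baseChange, Module.finrank_self] at h1
  have hL : L = ⊥ := IntermediateField.finrank_eq_one_iff.1 (le_antisymm h1 Module.finrank_pos)
  have hcL : c ∈ L := IntermediateField.mem_adjoin_simple_self k c
  rw [hL] at hcL
  exact IntermediateField.mem_bot.1 hcL

/-- A field is geometrically irreducible if it is irreducible after finite separable extensions. -/
theorem geometricallyIrreducible_spec_field {k K : Type u} [Field k] [Field K] [Algebra k K]
    (h : ∀ (L : Type u) [Field L] [Algebra k L] [FiniteDimensional k L] [Algebra.IsSeparable k L], IsDomain (K ⊗[k] L)) :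
    GeometricallyIrreducible (Spec.map (CommRingCat.ofHom (algebraMap k K))) := by
  let Y := Spec (CommRingCat.of K)
  let pt : Y := IsLocalRing.closedPoint K
  obtain ⟨ρ, hρ⟩ := Spec.map_surjective (Y.fromSpecResidueField pt ≫ Spec.map (CommRingCat.ofHom (algebraMap k K)))
  haveI : IrreducibleSpace ↥(pullback (Spec.map (CommRingCat.ofHom (algebraMap k K)))
      (Spec.map (CommRingCat.ofHom (algebraMap k (SeparableClosure k))))) := by
    refine VarietyLib.irreducibleSpace_of_generic_fibre_subsingleton fun p q hp hq =>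
      VarietyLib.fst_injOn_fibre _ _ pt (ρ := ρ.hom) hρ ?_ (hp.trans (Subsingleton.elim _ _))
        (hq.trans (Subsingleton.elim _ _))
    intro a ha
    let ι : CommRingCat.of K ⟶ Y.residueField pt :=
      CommRingCat.ofHom (algebraMap K pt.asIdeal.ResidueField) ≫ (Scheme.Spec.residueFieldIso (.of K) pt).inv
    have hιs : Function.Surjective ι.hom := by
      haveI : pt.asIdeal.IsMaximal := IsLocalRing.maximalIdeal.isMaximal K
      exact (ConcreteCategory.bijective_of_isIso (Scheme.Spec.residueFieldIso (.of K) pt).inv).2.comp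
        pt.asIdeal.algebraMap_residueField_surjective
    have hρι : CommRingCat.ofHom (algebraMap k K) ≫ ι = ρ := by
      apply Spec.map_injective
      rw [Spec.map_comp, Spec.map_comp, hρ, Scheme.Spec.map_residueFieldIso_inv_eq_fromSpecResidueField]
    obtain ⟨c, rfl⟩ := hιs a
    letI : Algebra k (Y.residueField pt) := ρ.hom.toAlgebra
    let ι' : K →ₐ[k] Y.residueField pt := { ι.hom with commutes' := fun e => congr($(hρι).hom e) }
    obtain ⟨e, rfl⟩ := mem_range_of_isSeparable h c (IsSeparable.of_algHom ι' ha)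
    exact ⟨e, (congr($(hρι).hom e)).symm⟩
  exact VarietyLib.geometricallyIrreducible_of_irreducibleSpace _ _

theorem geometricallyIrreducible_spec_of_finite_separable {k : Type u} [Field k] {K : CommRingCat.{u}} (hK : IsField K)
    (g : Spec K ⟶ Spec (CommRingCat.of k))
    (h : ∀ (L : Type u) [Field L] [Algebra k L] [FiniteDimensional k L] [Algebra.IsSeparable k L],
      IsIntegral (FBase.bc g L)) :
    GeometricallyIrreducible g := by
  obtain ⟨φ, rfl⟩ := Spec.map_surjective g
  letI := hK.toField
  letI : Algebra k K := φ.hom.toAlgebra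
  refine geometricallyIrreducible_spec_field (K := K) fun L _ _ _ _ => ?_
  haveI : IsIntegral (pullback (Spec.map (CommRingCat.ofHom (algebraMap k K))) (Spec.map (CommRingCat.ofHom (algebraMap k L)))) :=
    h L
  haveI : Nonempty (Spec (CommRingCat.of (K ⊗[k] L))) :=
    Nonempty.map (pullbackSpecIso k K L).hom inferInstance
  haveI : IsIntegral (Spec (CommRingCat.of (K ⊗[k] L))) := isIntegral_of_isOpenImmersion (pullbackSpecIso k K L).inv
  haveI : IsDomain Γ(Spec (CommRingCat.of (K ⊗[k] L)), ⊤) := inferInstance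
  exact (Scheme.ΓSpecIso (CommRingCat.of (K ⊗[k] L))).commRingCatIsoToRingEquiv.symm.injective.isDomain
    (Scheme.ΓSpecIso (CommRingCat.of (K ⊗[k] L))).commRingCatIsoToRingEquiv.symm.toRingHom

variable {k : Type u} [Field k] {X : Scheme.{u}} [IsLocallyNoetherian X] (f : X ⟶ Spec (CommRingCat.of k))
  (F : X.Modules) (hF : Coh.IsCoh F) (K : Type u) [Field K] [Algebra k K] [IsLocallyNoetherian (FBase.bc f K)]

omit [IsLocallyNoetherian X] [IsLocallyNoetherian (FBase.bc f K)] in
theorem isFlatOver_unit (z : ↥(FBase.bc f K)) :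
    FlatMod.IsFlatOverAt (FBase.bcπ f K) (Coh.structureModule (FBase.bc f K)) z :=
  (EGA43.FibDepth.isFlatOverAt_structureModule (FBase.bcπ f K) z).2 (Flat.stalkMap _ z)

theorem mem_ass_bc_iff (z : ↥(FBase.bc f K)) :
    z ∈ AssSch.Ass ((Scheme.Modules.pullback (FBase.bcπ f K)).obj F) ↔
      FBase.bcπ f K z ∈ AssSch.Ass F ∧ FibKilled (FBase.bcπ f K) z (Coh.structureModule (FBase.bc f K)) := by
  rw [← ass_congr (Groth.Agent.S7679.rightUnit _)]
  exact mem_ass_tensor_iff _ _ _ _ (isFlatOver_unit f K z)

theorem fiberι_mem_ass_iff {y : X} (q : ↥((FBase.bcπ f K).fiber y)) :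
    q ∈ AssSch.Ass (Coh.structureModule ((FBase.bcπ f K).fiber y)) ↔
      FibKilled (FBase.bcπ f K) ((FBase.bcπ f K).fiberι y q) (Coh.structureModule (FBase.bc f K)) := by
  rw [← ass_congr (PicLoc.pullbackStructureIso ((FBase.bcπ f K).fiberι y))]
  exact mem_ass_fiber_iff _ _ y q

theorem exists_ass_over_bc {y : X} (hy : y ∈ AssSch.Ass F) :
    ∃ z ∈ AssSch.Ass ((Scheme.Modules.pullback (FBase.bcπ f K)).obj F), FBase.bcπ f K z = y := by
  haveI := isLocallyNoetherian_fiber (FBase.bcπ f K) y
  obtain ⟨x, hx⟩ := (FBase.bcπ f K).surjective y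
  obtain ⟨q, -⟩ : x ∈ Set.range ((FBase.bcπ f K).fiberι y) := ((FBase.bcπ f K).range_fiberι y).ge hx
  obtain ⟨η, hη, -⟩ := VarietyLib.exists_genericPoints_specializes q
  have h0 : FBase.bcπ f K ((FBase.bcπ f K).fiberι y η) = y :=
    ((FBase.bcπ f K).range_fiberι y).le ⟨η, rfl⟩
  exact ⟨_, (mem_ass_bc_iff f F K _).2 ⟨h0.symm ▸ hy,
    (fiberι_mem_ass_iff f K η).1 (mem_ass_of_maximal (VarietyLib.mem_genericPoints_iff.1 hη))⟩, h0⟩

/-- A single associated point after base change gives irreducible fibres over associated points. -/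
theorem irreducibleSpace_of_ass_subsingleton
    (h : (AssSch.Ass ((Scheme.Modules.pullback (FBase.bcπ f K)).obj F)).Subsingleton) {y : X}
    (hy : y ∈ AssSch.Ass F) : IrreducibleSpace ↥(FBase.bc (ptStr f y) K) := by
  haveI := isLocallyNoetherian_fiber (FBase.bcπ f K) y
  have hmax : ∀ η : ↥((FBase.bcπ f K).fiber y), η ∈ genericPoints ↥((FBase.bcπ f K).fiber y) →
      (FBase.bcπ f K).fiberι y η ∈ AssSch.Ass ((Scheme.Modules.pullback (FBase.bcπ f K)).obj F) := fun η hη => by
    refine (mem_ass_bc_iff f F K _).2 ⟨?_, (fiberι_mem_ass_iff f K η).1 (mem_ass_of_maximal (VarietyLib.mem_genericPoints_iff.1 hη))⟩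
    rw [show FBase.bcπ f K ((FBase.bcπ f K).fiberι y η) = y from ((FBase.bcπ f K).range_fiberι y).le ⟨η, rfl⟩]
    exact hy
  obtain ⟨x, hx⟩ := (FBase.bcπ f K).surjective y
  obtain ⟨q, -⟩ : x ∈ Set.range ((FBase.bcπ f K).fiberι y) := ((FBase.bcπ f K).range_fiberι y).ge hx
  obtain ⟨η, hη, -⟩ := VarietyLib.exists_genericPoints_specializes q
  haveI : IrreducibleSpace ↥((FBase.bcπ f K).fiber y) := by
    refine (irreducibleSpace_def _).2 ?_
    change IsIrreducible (Set.univ : Set ↥((FBase.bcπ f K).fiber y))
    rw [show (Set.univ : Set ↥((FBase.bcπ f K).fiber y)) = closure {η} from (Set.eq_univ_of_forall fun w => by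
      obtain ⟨η', hη', hw⟩ := VarietyLib.exists_genericPoints_specializes w
      rw [(FBase.bcπ f K).fiberι y |>.isEmbedding.injective (h (hmax η hη) (hmax η' hη'))]
      exact specializes_iff_mem_closure.1 hw).symm]
    exact isIrreducible_singleton.closure
  exact (fiberIso f K y).hom.homeomorph.surjective.irreducibleSpace (fiberIso f K y).hom.continuous

/-- Irreducible reduced fibres over the only associated point give a single associated point. -/
theorem ass_subsingleton_of_irreducible {y : X} (hy : AssSch.Ass F = {y})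
    [AlgebraicGeometry.IsReduced (FBase.bc (ptStr f y) K)] [IrreducibleSpace ↥(FBase.bc (ptStr f y) K)] :
    (AssSch.Ass ((Scheme.Modules.pullback (FBase.bcπ f K)).obj F)).Subsingleton := by
  haveI := isLocallyNoetherian_fiber (FBase.bcπ f K) y
  haveI : AlgebraicGeometry.IsReduced ((FBase.bcπ f K).fiber y) :=
    isReduced_of_isOpenImmersion (fiberIso f K y).hom
  haveI : IrreducibleSpace ↥((FBase.bcπ f K).fiber y) :=
    (fiberIso f K y).inv.homeomorph.surjective.irreducibleSpace (fiberIso f K y).inv.continuous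
  intro a ha b hb
  obtain ⟨ha1, ha2⟩ := (mem_ass_bc_iff f F K a).1 ha
  obtain ⟨hb1, hb2⟩ := (mem_ass_bc_iff f F K b).1 hb
  rw [hy, Set.mem_singleton_iff] at ha1 hb1
  obtain ⟨qa, rfl⟩ : a ∈ Set.range ((FBase.bcπ f K).fiberι y) := ((FBase.bcπ f K).range_fiberι y).ge ha1
  obtain ⟨qb, rfl⟩ : b ∈ Set.range ((FBase.bcπ f K).fiberι y) := ((FBase.bcπ f K).range_fiberι y).ge hb1
  have h1 := eq_of_specializes_ass ((fiberι_mem_ass_iff f K qa).2 ha2) (genericPoint_specializes qa)
  have h2 := eq_of_specializes_ass ((fiberι_mem_ass_iff f K qb).2 hb2) (genericPoint_specializes qb)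
  rw [← h1, ← h2]

include hF in
/-- Integrality after finite extensions implies it after all extensions. -/
theorem exists_ass_eq_singleton_bc
    (h : ∀ (k' : Type u) [Field k'] [Algebra k k'] [FiniteDimensional k k'],
        ∃ x' : ↥(FBase.bc f k'), AssSch.Ass ((Scheme.Modules.pullback (FBase.bcπ f k')).obj F) = {x'} ∧
          Module.length ↑((FBase.bc f k').presheaf.stalk x') ↑(((Scheme.Modules.pullback (FBase.bcπ f k')).obj F).presheaf.stalk x') = 1) :
    ∃ x' : ↥(FBase.bc f K), AssSch.Ass ((Scheme.Modules.pullback (FBase.bcπ f K)).obj F) = {x'} ∧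
      Module.length ↑((FBase.bc f K).presheaf.stalk x') ↑(((Scheme.Modules.pullback (FBase.bcπ f K)).obj F).presheaf.stalk x') = 1 := by
  have hred : ∀ (k' : Type u) [Field k'] [Algebra k k'] [FiniteDimensional k k'],
      AssSch.IsReducedMod ((Scheme.Modules.pullback (FBase.bcπ f k')).obj F) := fun k' _ _ _ => by
    obtain ⟨x', hx', hl⟩ := h k'
    refine ⟨fun a ha b hb _ => ?_, fun a ha => ?_⟩
    · rw [hx'] at ha hb
      exact ha.trans hb.symm
    · rw [hx'] at ha
      obtain rfl : a = x' := ha
      exact hl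
  have hK := isReducedMod_bc_of_purelyInseparable f F hF (fun k' _ _ _ _ => hred k') K
  -- the single associated point downstairs
  obtain ⟨y, hy⟩ : ∃ y, AssSch.Ass F = {y} := by
    haveI := isLocallyNoetherian_bc_finite f k
    obtain ⟨x', hx', -⟩ := h k
    have hmem : ∀ y ∈ AssSch.Ass F, FBase.bcπ f k x' = y := fun y hy => by
      obtain ⟨z, hz, rfl⟩ := exists_ass_over_bc f F k hy
      rw [hx'] at hz
      rw [show z = x' from hz]
    exact ⟨_, Set.eq_singleton_iff_unique_mem.2
      ⟨((mem_ass_bc_iff f F k x').1 (hx'.ge rfl)).1, fun y hy => (hmem y hy).symm⟩⟩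
  have hyA : y ∈ AssSch.Ass F := hy.ge rfl
  haveI : GeometricallyIrreducible (ptStr f y) := by
    refine geometricallyIrreducible_spec_of_finite_separable (Field.toIsField _) _ fun L _ _ _ _ => ?_
    haveI := isLocallyNoetherian_bc_finite f L
    obtain ⟨x', hx', -⟩ := h L
    haveI := irreducibleSpace_of_ass_subsingleton f F L (hx' ▸ Set.subsingleton_singleton) hyA
    haveI := ((isReducedMod_bc_iff f F hF L).1 (hred L) y hyA).2.2
    exact isIntegral_of_irreducibleSpace_of_isReduced _
  haveI := ((isReducedMod_bc_iff f F hF K).1 hK y hyA).2.2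
  haveI : IrreducibleSpace ↥(FBase.bc (ptStr f y) K) :=
    GeometricallyIrreducible.geometrically_irreducibleSpace (f := ptStr f y) _ _ _ (IsPullback.of_hasPullback _ _)
  obtain ⟨z, hz, -⟩ := exists_ass_over_bc f F K hyA
  exact ⟨z, Set.eq_singleton_iff_unique_mem.2 ⟨hz, fun w hw => ass_subsingleton_of_irreducible f F K hy hw hz⟩,
    hK.2 z hz⟩

end Groth.Agent.FBRed8
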