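import Groth.Agent.S2546
import Groth.Agent.FBRed8.Fibre
import Groth.Agent.FBaseLib.NoEmbedded
import Groth.Agent.AlgSpLib.GeomReducedPt
import Groth.Agent.AssSch12.OpenRestrict
import Groth.Agent.Desc19b.FlatOverBC
import Groth.Agent.S7679
import Groth.Agent.EGA43.InjFibre.Scheme
import Groth.Agent.Coherent.SupportPullback
import Groth.Agent.EGA43.FibDepth.Unit
import Groth.Agent.Coherent.ProperFinite
import Groth.Agent.AssSch12.MaxSupport

/-!
# Reduced modules and field extensions
-/

set_option autoImplicit false
set_option linter.style.haveILetI false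
set_option backward.isDefEq.respectTransparency.types false
universe u

open CategoryTheory CategoryTheory.Limits AlgebraicGeometry IsLocalRing Groth.Agent.AssSch12

namespace Groth.Agent.FBRed8

open Groth.Agent.FBaseLib.NoEmbedded

theorem length_stalk_congr {X : Scheme.{u}} {M N : X.Modules} (e : M ≅ N) (x : X) :
    Module.length (X.presheaf.stalk x) (M.presheaf.stalk x) = Module.length (X.presheaf.stalk x) (N.presheaf.stalk x) :=
  ((DerSch.stalkFunctor X x).mapIso e).toLinearEquiv.length_eq

theorem isReducedMod_congr {X : Scheme.{u}} {M N : X.Modules} (e : M ≅ N) :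
    AssSch.IsReducedMod M ↔ AssSch.IsReducedMod N := by
  refine and_congr ?_ ?_
  · unfold AssSch.NoEmbedded
    rw [ass_congr e]
  · rw [ass_congr e]
    exact forall₂_congr fun x _ => by rw [length_stalk_congr e x]

theorem isReducedMod_pullback_iso {X Z : Scheme.{u}} [IsLocallyNoetherian X] [IsLocallyNoetherian Z]
    (j : Z ≅ X) (F : X.Modules) (h : AssSch.IsReducedMod F) :
    AssSch.IsReducedMod ((Scheme.Modules.pullback j.hom).obj F) := by
  refine ⟨fun a ha b hb hs => ?_, fun a ha => ?_⟩
  · apply j.hom.isEmbedding.injective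
    exact h.1 _ ((pullback_iso_stalk j.hom F a inferInstance).1.1 ha) _
      ((pullback_iso_stalk j.hom F b inferInstance).1.1 hb) (hs.map j.hom.continuous)
  · rw [(pullback_iso_stalk j.hom F a inferInstance).2]
    exact h.2 _ ((pullback_iso_stalk j.hom F a inferInstance).1.1 ha)

/-- The linear identification of the stalk of the structure module. -/
noncomputable def stalkUnitEquiv (T : Scheme.{u}) (t : T) :
    T.presheaf.stalk t ≃ₗ[T.presheaf.stalk t] (Coh.structureModule T).presheaf.stalk t :=
  LinearEquiv.ofBijective (LinearMap.toSpanSingleton _ _ (unitOne t)) (bijective_smul_unitOne t)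

theorem length_structureModule (T : Scheme.{u}) (t : T) :
    Module.length (T.presheaf.stalk t) ((Coh.structureModule T).presheaf.stalk t) =
      Module.length (T.presheaf.stalk t) (T.presheaf.stalk t) :=
  (stalkUnitEquiv T t).length_eq.symm

theorem isReducedMod_structureModule_iff (T : Scheme.{u}) [IsLocallyNoetherian T] :
    AssSch.IsReducedMod (Coh.structureModule T) ↔ AlgebraicGeometry.IsReduced T := by
  haveI := QCohLoc.isQCoh_structureModule T
  constructor
  · intro h
    haveI : ∀ U : T.Opens, IsAffineOpen U → _root_.IsReduced Γ(T, U) := fun U hU => ⟨fun s hs => by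
      refine AssSch12.eq_zero_of_germ_ass (M := Coh.structureModule T) hU (show Γ(Coh.structureModule T, U) from s)
        fun x hx hxa => ?_
      have hl := h.2 x hxa
      rw [length_structureModule, Module.length_eq_one_iff] at hl
      have hbot : maximalIdeal (T.presheaf.stalk x) = ⊥ :=
        ((isSimpleModule_iff (T.presheaf.stalk x) (T.presheaf.stalk x)).1 hl).eq_bot_or_eq_top _ |>.resolve_right
          (maximalIdeal.isMaximal _).ne_top
      have hn : T.presheaf.germ U x hx s ∈ maximalIdeal (T.presheaf.stalk x) :=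
        (mem_maximalIdeal _).2 fun hu => (hs.map (T.presheaf.germ U x hx).hom).not_isUnit hu
      rw [hbot] at hn
      rw [germ_eq_smul_unitOne]
      exact (congrArg (· • unitOne x) ((Submodule.mem_bot _).1 hn)).trans (zero_smul _ _)⟩
    refine @IsReduced.of_openCover _ T.affineCover fun i => ?_
    have := this (T.affineCover.f i).opensRange (isAffineOpen_opensRange _)
    exact @isReduced_of_isOpenImmersion _ _ ((T.affineCover.f i).isoOpensRange.hom) inferInstance
      (@isReduced_of_isAffine_isReduced _ (isAffineOpen_opensRange _) (by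
        exact isReduced_of_injective _ (Scheme.Opens.topIso _).commRingCatIsoToRingEquiv.injective))
  · intro h
    refine ⟨noEmbedded_of_isReduced T, fun x hx => ?_⟩
    have hbot := maximalIdeal_eq_bot_of_killed _ ((killed_structureModule_iff x).1 ((killed_stalk_iff _ x).1 hx))
    letI := (IsLocalRing.isField_iff_maximalIdeal_eq.2 hbot).toField
    rw [length_structureModule]
    exact Module.length_eq_one_iff.2 inferInstance

variable {k : Type u} [Field k] {X : Scheme.{u}} (f : X ⟶ Spec (CommRingCat.of k))

theorem mem_support_unit {T : Scheme.{u}} [IsLocallyNoetherian T] (t : T) : t ∈ CohB1.support (Coh.structureModule T) :=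
  (mem_support_iff (M := Coh.structureModule T)).2 (stalkUnitEquiv T t).symm.toEquiv.nontrivial

/-- The point `y` of `X` as a `k`-scheme. -/
noncomputable abbrev ptStr (y : X) : Spec (X.residueField y) ⟶ Spec (CommRingCat.of k) :=
  X.fromSpecResidueField y ≫ f

/-- The fibre of the projection over a point. -/
noncomputable def fiberIso (K : Type u) [Field K] [Algebra k K] (y : X) :
    (FBase.bcπ f K).fiber y ≅ FBase.bc (ptStr f y) K :=
  pullbackSymmetry _ _ ≪≫ pullbackRightPullbackFstIso f _ (X.fromSpecResidueField y)

instance flat_bcπ (K : Type u) [Field K] [Algebra k K] : Flat (FBase.bcπ f K) :=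
  MorphismProperty.pullback_fst (P := @Flat) _ _ inferInstance

instance surjective_bcπ (K : Type u) [Field K] [Algebra k K] : Surjective (FBase.bcπ f K) :=
  haveI : Surjective (Spec.map (CommRingCat.ofHom (algebraMap k K))) := ⟨fun x =>
    ⟨(⊥ : PrimeSpectrum K), Subsingleton.elim (α := PrimeSpectrum k) _ x⟩⟩
  MorphismProperty.pullback_fst (P := @Surjective) _ _ inferInstance

variable [IsLocallyNoetherian X]

/-- Reduced base change of a module, on the points. -/
theorem isReducedMod_bc_iff (F : X.Modules) (hF : Coh.IsCoh F) (K : Type u) [Field K] [Algebra k K]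
    [IsLocallyNoetherian (FBase.bc f K)] :
    AssSch.IsReducedMod ((Scheme.Modules.pullback (FBase.bcπ f K)).obj F) ↔
      ∀ y ∈ AssSch.Ass F, (∀ y' ∈ AssSch.Ass F, y' ⤳ y → y' = y) ∧
        Module.length (X.presheaf.stalk y) (F.presheaf.stalk y) = 1 ∧
          AlgebraicGeometry.IsReduced (FBase.bc (ptStr f y) K) := by
  rw [isReducedMod_congr (Groth.Agent.S7679.rightUnit _).symm,
    S2546.result (FBase.bcπ f K) F hF _ (Coherent.isCoh_structureModule _)
      (fun x => (EGA43.FibDepth.isFlatOverAt_structureModule (FBase.bcπ f K) x).2 (Flat.stalkMap _ x))]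
  refine ⟨fun h y hy => ?_, fun h y hy => ?_⟩
  · obtain ⟨x, hx⟩ := (FBase.bcπ f K).surjective y
    obtain ⟨h1, h2, h3⟩ := h y ⟨hy, x, mem_support_unit x, hx⟩
    haveI := isLocallyNoetherian_fiber (FBase.bcπ f K) y
    have h4 := (isReducedMod_structureModule_iff _).1 ((isReducedMod_congr (PicLoc.pullbackStructureIso _)).1 h3)
    exact ⟨h1, h2, @isReduced_of_isOpenImmersion _ _ (fiberIso f K y).inv inferInstance h4⟩
  · obtain ⟨h1, h2, h3⟩ := h y hy.1
    haveI := isLocallyNoetherian_fiber (FBase.bcπ f K) y
    exact ⟨h1, h2, (isReducedMod_congr (PicLoc.pullbackStructureIso _)).2 ((isReducedMod_structureModule_iff _).2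
      (@isReduced_of_isOpenImmersion _ _ (fiberIso f K y).hom inferInstance h3))⟩

end Groth.Agent.FBRed8

namespace Groth.Agent.FBRed8

open Groth.Agent.FBaseLib.NoEmbedded

variable {k : Type u} [Field k] {X : Scheme.{u}} (f : X ⟶ Spec (CommRingCat.of k))

theorem isLocallyNoetherian_bc_finite [IsLocallyNoetherian X] (k' : Type u) [Field k'] [Algebra k k']
    [FiniteDimensional k k'] : IsLocallyNoetherian (FBase.bc f k') :=
  haveI : LocallyOfFiniteType (Spec.map (CommRingCat.ofHom (algebraMap k k'))) :=
    (HasRingHomProperty.Spec_iff (P := @LocallyOfFiniteType)).2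
      (RingHom.finiteType_algebraMap.2 (inferInstance : Algebra.FiniteType k k'))
  haveI : LocallyOfFiniteType (pullback.fst f (Spec.map (CommRingCat.ofHom (algebraMap k k')))) :=
    MorphismProperty.pullback_fst _ _ inferInstance
  @LocallyOfFiniteType.isLocallyNoetherian _ _ (pullback.fst f (Spec.map (CommRingCat.ofHom (algebraMap k k'))))
    (MorphismProperty.pullback_fst _ _ inferInstance) _

/-- Reducedness after purely inseparable extensions implies it after all extensions. -/
theorem isReducedMod_bc_of_purelyInseparable [IsLocallyNoetherian X] (F : X.Modules) (hF : Coh.IsCoh F)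
    (h : ∀ (k' : Type u) [Field k'] [Algebra k k'] [FiniteDimensional k k'] [IsPurelyInseparable k k'],
      AssSch.IsReducedMod ((Scheme.Modules.pullback (FBase.bcπ f k')).obj F))
    (K : Type u) [Field K] [Algebra k K] [IsLocallyNoetherian (FBase.bc f K)] :
    AssSch.IsReducedMod ((Scheme.Modules.pullback (FBase.bcπ f K)).obj F) := by
  rw [isReducedMod_bc_iff f F hF]
  intro y hy
  haveI := isLocallyNoetherian_bc_finite f k
  obtain ⟨h1, h2, -⟩ := (isReducedMod_bc_iff f F hF k).1 (h k) y hy
  refine ⟨h1, h2, ?_⟩
  haveI : GeometricallyReduced (ptStr f y) :=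
    AlgSpLib.geometricallyReduced_of_forall_purelyInseparable (ptStr f y) fun k' _ _ _ _ => by
      haveI := isLocallyNoetherian_bc_finite f k'
      exact ((isReducedMod_bc_iff f F hF k').1 (h k') y hy).2.2
  exact GeometricallyReduced.geometrically_isReduced (f := ptStr f y) _ _ _ (IsPullback.of_hasPullback _ _)

theorem isCoh_pullback' {Z W : Scheme.{u}} (q : Z ⟶ W) {M : W.Modules} (hM : Coh.IsCoh M) :
    Coh.IsCoh ((Scheme.Modules.pullback q).obj M) :=
  ⟨haveI := hM.1; EGA43.InjFibre.isQCoh_pullback q M, Groth.Agent.Coherent.isFT_pullback_qcoh q hM.1 hM.2⟩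

/-- External tensor products of a geometrically reduced and a reduced module. -/
theorem isReducedMod_externalTensor {Y : Scheme.{u}} [IsLocallyNoetherian X] [IsLocallyNoetherian Y]
    (g : Y ⟶ Spec (CommRingCat.of k)) [IsLocallyNoetherian (pullback f g)] (F : X.Modules) (hF : Coh.IsCoh F)
    (G : Y.Modules) (hG : Coh.IsCoh G)
    (hFgr : ∀ (k' : Type u) [Field k'] [Algebra k k'] [FiniteDimensional k k'] [IsPurelyInseparable k k'],
      AssSch.IsReducedMod ((Scheme.Modules.pullback (FBase.bcπ f k')).obj F))
    (hGr : AssSch.IsReducedMod G) :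
    AssSch.IsReducedMod (CohB1.tensorMod ((Scheme.Modules.pullback (pullback.fst f g)).obj F)
      ((Scheme.Modules.pullback (pullback.snd f g)).obj G)) := by
  rw [isReducedMod_congr (AmpleLib.tensorComm _ _)]
  refine (S2546.result (pullback.snd f g) G hG _ (isCoh_pullback' (pullback.fst f g) hF)
    (fun z => Desc19b.isFlatOverAt_baseChange f (pullback.snd f g) (pullback.fst f g) g
      (IsPullback.of_hasPullback f g) F z (isFlatOver_field f F _))).2 fun y hy => ⟨fun y' hy' hs => (hGr.1 y hy.1 y' hy' hs).symm, hGr.2 y hy.1, ?_⟩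
  let φ : CommRingCat.of k ⟶ Y.residueField y := Spec.preimage (ptStr g y)
  letI : Algebra k (Y.residueField y) := φ.hom.toAlgebra
  have hφ : Spec.map (CommRingCat.ofHom (algebraMap k (Y.residueField y))) = ptStr g y :=
    Spec.map_preimage _
  let c : (pullback.snd f g).fiber y ≅ FBase.bc f (Y.residueField y) :=
    pullbackLeftPullbackSndIso f g (Y.fromSpecResidueField y) ≪≫ pullback.congrHom rfl hφ.symm
  have hc : c.hom ≫ FBase.bcπ f (Y.residueField y) = (pullback.snd f g).fiberι y ≫ pullback.fst f g := by
    show (_ ≫ (pullback.congrHom rfl hφ.symm).hom) ≫ pullback.fst _ _ = _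
    rw [Category.assoc, pullback.congrHom_hom, pullback.lift_fst, Category.comp_id,
      ]
    exact pullbackLeftPullbackSndIso_hom_fst f g _
  haveI := isLocallyNoetherian_fiber (pullback.snd f g) y
  haveI : IsLocallyNoetherian (FBase.bc f (Y.residueField y)) := isLocallyNoetherian_of_isOpenImmersion c.inv
  have h1 := isReducedMod_pullback_iso c _
    (isReducedMod_bc_of_purelyInseparable f F hF hFgr (Y.residueField y))
  exact (isReducedMod_congr ((Scheme.Modules.pullbackComp ((pullback.snd f g).fiberι y) (pullback.fst f g)).app F ≪≫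
    (Scheme.Modules.pullbackCongr hc.symm).app F ≪≫
    ((Scheme.Modules.pullbackComp c.hom (FBase.bcπ f (Y.residueField y))).app F).symm)).2 h1

end Groth.Agent.FBRed8
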